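import Cfsg.Agent.N2.Cent.X.SporB
import Cfsg.Agent.N2.Cent.Cl.Main

/-!
# N2 (S3519): the box `Cent`, all rows (helper76)
-/

set_option autoImplicit false

namespace Cfsg.Agent.N2

/-- **all rows of `Cent`** -/
theorem allC : All CRow := CentX.all_of_cl cRow_L cRow_S cRow_U cRow_O cRow_P cRow_M

end Cfsg.Agent.N2
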