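import Cfsg.Agent.N2.Tool
import Mathlib.GroupTheory.Perm.Centralizer
import Mathlib.GroupTheory.SpecificGroups.Alternating

/-!
# N2 (S3519), box `Cent`: tools and the alternating groups (helper76)
-/

set_option autoImplicit false

namespace Cfsg.Agent.N2.CentX

open Cfsg Cfsg.Agent.FP3 Subgroup

/-- an element with centraliser of order at most `c` -/
def Sm (G : Type*) [Group G] (c : ℕ) : Prop := ∃ x : G, Nat.card (centralizer ({x} : Set G)) ≤ c

section tool

variable {G H : Type*} [Group G] [Group H]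

theorem Sm.mono {c d : ℕ} (h : Sm G c) (hd : c ≤ d) : Sm G d := h.imp fun _ hx => hx.trans hd

theorem Sm.row {c : ℕ} (h : Sm G c) (hc : c ^ 3 ≤ Nat.card G) : CentRow G :=
  h.imp fun _ hx => (Nat.pow_le_pow_left hx 3).trans hc

theorem Sm.row' {c n : ℕ} (h : Sm H c) (e : G ≃* H) (hn : Nat.card G = n) (hc : c ^ 3 ≤ n) : CentRow G :=
  centRow_congr e.symm (h.row (by rw [← Nat.card_congr e.toEquiv, hn]; exact hc))

theorem cent_le_of_inj [Finite G] (ι : H →* G) (hι : Function.Injective ι) (x : H) :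
    Nat.card (centralizer ({x} : Set H)) ≤ Nat.card (centralizer ({ι x} : Set G)) := by
  refine Nat.card_le_card_of_injective (fun g => ⟨ι g, mem_centralizer_singleton_iff.2 ?_⟩) fun a b h => ?_
  · rw [← map_mul, ← map_mul, mem_centralizer_singleton_iff.1 g.2]
  · exact Subtype.ext (hι (Subtype.mk.inj h))

theorem cent_zpowers (x : G) : centralizer ((zpowers x : Subgroup G) : Set G) = centralizer {x} := by
  refine le_antisymm (centralizer_le (by simp)) fun c hc => mem_centralizer_iff.2 fun w hw => ?_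
  obtain ⟨i, rfl⟩ := mem_zpowers_iff.1 hw
  have h : Commute x c := (mem_centralizer_singleton_iff.1 hc).symm
  exact h.zpow_left i

/-- a self-centralising cyclic subgroup -/
theorem sm_of_cyclic {c : ℕ} (h : ∃ K : Subgroup G, IsCyclic K ∧ Nat.card K = c ∧ centralizer (K : Set G) = K) : Sm G c := by
  obtain ⟨K, hc, hm, hK⟩ := h
  obtain ⟨⟨x, hx⟩, hg⟩ := hc.exists_generator
  have h1 : zpowers x = K := le_antisymm (zpowers_le.2 hx) fun y hy => by
    obtain ⟨i, hi⟩ := mem_zpowers_iff.1 (hg ⟨y, hy⟩)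
    exact mem_zpowers_iff.2 ⟨i, congrArg Subtype.val hi⟩
  exact ⟨x, by rw [← cent_zpowers, h1, hK, hm]⟩

/-- an isolated subgroup -/
theorem sm_of_iso {c : ℕ} (hc : 1 < c) {K : Subgroup G} (hK : Nat.card K = c)
    (h : ∀ y ∈ K, y ≠ 1 → centralizer ({y} : Set G) = K) : Sm G c := by
  have : Finite K := Nat.finite_of_card_ne_zero (by omega)
  have : Nontrivial K := by rw [← Finite.one_lt_card_iff_nontrivial, hK]; exact hc
  obtain ⟨⟨x, hx⟩, h1⟩ := exists_ne (1 : K)
  exact ⟨x, by rw [h x hx fun k => h1 (Subtype.ext k), hK]⟩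

/-- all elements of prime order `p` -/
theorem sm_of_prime {n p c : ℕ} (hn : Nat.card G = n) (h0 : n ≠ 0) (hp : p.Prime) (hd : p ∣ n)
    (h : ∀ x : G, orderOf x = p → Nat.card (centralizer ({x} : Set G)) ≤ c) : Sm G c := by
  have : Finite G := Nat.finite_of_card_ne_zero (hn ▸ h0)
  have : Fact p.Prime := ⟨hp⟩
  obtain ⟨x, hx⟩ := exists_prime_orderOf_dvd_card' (G := G) p (hn ▸ hd)
  exact ⟨x, h x hx⟩

theorem Sm.congr {c : ℕ} [Finite H] (h : Sm H c) (e : G ≃* H) : Sm G c := by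
  obtain ⟨x, hx⟩ := h
  refine ⟨e.symm x, (cent_le_of_inj e.toMonoidHom e.injective _).trans ?_⟩
  have h1 : e.toMonoidHom (e.symm x) = x := e.apply_symm_apply x
  rwa [h1]

end tool

section alt

theorem exists_cycle {n m : ℕ} (hm : m ≤ n) (h2 : 2 ≤ m) (ho : Odd m) :
    Sm (alternatingGroup (Fin n)) ((n - m).factorial * m) := by
  obtain ⟨g, hg⟩ := (Equiv.Perm.exists_with_cycleType_iff (α := Fin n) (m := {m})).2
    ⟨by rw [Multiset.sum_singleton, Fintype.card_fin]; exact hm, fun a ha => by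
      rw [Multiset.mem_singleton] at ha
      omega⟩
  have hs : Equiv.Perm.sign g = 1 := by
    rw [Equiv.Perm.sign_of_cycleType, hg, Multiset.sum_singleton, Multiset.card_singleton]
    exact ho.add_one.neg_one_pow
  refine ⟨⟨g, Equiv.Perm.mem_alternatingGroup.2 hs⟩, (cent_le_of_inj (alternatingGroup (Fin n)).subtype
    (subtype_injective _) _).trans (le_of_eq ?_)⟩
  change Nat.card (centralizer ({g} : Set (Equiv.Perm (Fin n)))) = _
  rw [Equiv.Perm.nat_card_centralizer, hg]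
  simp

theorem sm_alt {n : ℕ} (hn : 5 ≤ n) : Sm (alternatingGroup (Fin n)) (2 * ((n - 1) / 2) + 1) := by
  refine (exists_cycle (m := 2 * ((n - 1) / 2) + 1) (by omega) (by omega) (odd_two_mul_add_one _)).mono (le_of_eq ?_)
  have h : n - (2 * ((n - 1) / 2) + 1) = 0 ∨ n - (2 * ((n - 1) / 2) + 1) = 1 := by omega
  rcases h with h | h <;> rw [h] <;> simp

/-- the three-cycle -/
def c3 : Equiv.Perm (Fin 5) := Equiv.swap 0 1 * Equiv.swap 1 2

theorem c3_cent : ∀ g : Equiv.Perm (Fin 5), Equiv.Perm.sign g = 1 → g * c3 = c3 * g → g = 1 ∨ g = c3 ∨ g = c3 * c3 := by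
  decide +kernel

theorem c3_sign : Equiv.Perm.sign c3 = 1 := by decide +kernel

theorem sm_five : Sm (alternatingGroup (Fin 5)) 3 := by
  refine ⟨⟨c3, Equiv.Perm.mem_alternatingGroup.2 c3_sign⟩, ?_⟩
  have h3 : ({1, c3, c3 * c3} : Set (Equiv.Perm (Fin 5))).ncard ≤ 3 :=
    (Set.ncard_insert_le _ _).trans (Nat.succ_le_succ ((Set.ncard_insert_le _ _).trans (by rw [Set.ncard_singleton])))
  refine le_trans ?_ h3
  rw [← Nat.card_coe_set_eq]
  exact Nat.card_le_card_of_injective (fun g => ⟨g.1.1, c3_cent _ (Equiv.Perm.mem_alternatingGroup.1 g.1.2)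
    (congrArg Subtype.val (mem_centralizer_singleton_iff.1 g.2))⟩) fun a b h =>
    Subtype.ext (Subtype.ext (Subtype.mk.inj h))

theorem card_alt {n : ℕ} (hn : 2 ≤ n) : 2 * Nat.card (alternatingGroup (Fin n)) = n.factorial := by
  have : Nontrivial (Fin n) := Fin.nontrivial_iff_two_le.2 hn
  rw [two_mul_nat_card_alternatingGroup, Nat.card_perm, Nat.card_eq_fintype_card, Fintype.card_fin]

theorem cube_le (k : ℕ) : 2 * (k + 7) ^ 3 ≤ (k + 7).factorial := by
  induction k with
  | zero => decide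
  | succ k ih =>
    rw [show k + 1 + 7 = k + 7 + 1 by ring, Nat.factorial_succ]
    refine le_trans ?_ (Nat.mul_le_mul_left _ ih)
    have h1 : (k + 7 + 1) ^ 2 ≤ (k + 7) ^ 3 := by nlinarith [Nat.zero_le (k ^ 3), Nat.zero_le (k ^ 2), Nat.zero_le k]
    calc 2 * (k + 7 + 1) ^ 3 = (k + 7 + 1) * (2 * (k + 7 + 1) ^ 2) := by ring
      _ ≤ _ := Nat.mul_le_mul_left _ (Nat.mul_le_mul_left _ h1)

theorem row_alt {n : ℕ} (hn : 5 ≤ n) : CentRow (alternatingGroup (Fin n)) := by
  have h := card_alt (n := n) (by omega)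
  obtain rfl | rfl | h7 : n = 5 ∨ n = 6 ∨ 7 ≤ n := by omega
  · refine sm_five.row ?_
    rw [show Nat.factorial 5 = 120 from rfl] at h
    omega
  · refine (sm_alt hn).row ?_
    rw [show Nat.factorial 6 = 720 from rfl] at h
    omega
  · refine ((sm_alt hn).mono (d := n) (by omega)).row ?_
    obtain ⟨k, rfl⟩ : ∃ k, n = k + 7 := ⟨n - 7, by omega⟩
    exact Nat.le_of_mul_le_mul_left (h ▸ cube_le k) two_pos

/-- **the alternating groups** -/
theorem cent_alt {T : Type*} [Group T] (h : IsAlternating T) : CentRow T := by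
  obtain ⟨n, hn, ⟨e⟩⟩ := h
  exact centRow_congr e.symm (row_alt hn)

end alt

end Cfsg.Agent.N2.CentX
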