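import Cfsg.Agent.N2.Cent.X.Base
import Cfsg.Agent.H129.CycT
import Cfsg.Agent.H129.CycT2
import Cfsg.Agent.H129.CycRow
import Cfsg.Agent.H129.SuzT
import Cfsg.Agent.OddCyclic.ClaimC.SzIso
import Cfsg.Agent.S0333
import Cfsg.Agent.S1059
import Cfsg.Agent.S1062
import Cfsg.Agent.S1063
import Cfsg.Agent.S1064
import Cfsg.Agent.S1065
import Cfsg.Agent.S1066
import Cfsg.Agent.S1067
import Cfsg.Agent.S1068
import Cfsg.Agent.S1069
import Cfsg.Agent.S1163
import Cfsg.Agent.S2371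
import Cfsg.Agent.S2373
import Cfsg.Agent.S2374

/-!
# N2 (S3519), box `Cent`: the exceptional groups of Lie type (helper76)
-/

set_option autoImplicit false

namespace Cfsg.Agent.N2.CentX

open Cfsg Cfsg.Lie Cfsg.Agent.FP3 Subgroup Cfsg.Agent.H129.CycT

section num

variable {q : ℕ}

/-- `q ^ b - q ^ a + 1` -/
def ph (q a b : ℕ) : ℕ := q ^ b - q ^ a + 1

theorem ph_cast (hq : 2 ≤ q) {a b : ℕ} (h : a ≤ b) : (ph q a b : ℤ) = 1 - (q : ℤ) ^ a + (q : ℤ) ^ b := by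
  have h1 : q ^ a ≤ q ^ b := Nat.pow_le_pow_right (by omega) h
  unfold ph
  push_cast [Nat.cast_sub h1]
  ring

theorem ph_le (hq : 2 ≤ q) {a b : ℕ} (h : a ≤ b) : ph q a b ≤ q ^ b := by
  have h1 : q ^ a ≤ q ^ b := Nat.pow_le_pow_right (by omega) h
  have h2 : 1 ≤ q ^ a := Nat.one_le_pow _ _ (by omega)
  unfold ph
  omega

theorem lt_ph (hq : 2 ≤ q) {a b : ℕ} (h : a < b) : q ^ a < ph q a b := by
  have h1 : q ^ (a + 1) ≤ q ^ b := Nat.pow_le_pow_right (by omega) h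
  have h2 : q ^ a * 2 ≤ q ^ (a + 1) := by rw [pow_succ]; exact Nat.mul_le_mul_left _ hq
  unfold ph
  omega

theorem one_lt_ph (hq : 2 ≤ q) {a b : ℕ} (h : a < b) : 1 < ph q a b :=
  lt_of_le_of_lt (Nat.one_le_pow _ _ (by omega)) (lt_ph hq h)

theorem sub_pos (hq : 2 ≤ q) (k : ℕ) : 0 < q ^ (k + 1) - 1 :=
  Nat.sub_pos_of_lt (Nat.one_lt_pow (by omega) (by omega))

theorem phi3_le (hq : 2 ≤ q) : q ^ 2 + q + 1 ≤ q ^ 3 := by
  obtain ⟨k, rfl⟩ : ∃ k, q = k + 2 := ⟨q - 2, by omega⟩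
  nlinarith [Nat.zero_le (k ^ 3), Nat.zero_le (k ^ 2), Nat.zero_le k]

theorem succ_le (hq : 2 ≤ q) (k : ℕ) : q ^ k + 1 ≤ q ^ (k + 1) := by
  have h1 : 1 ≤ q ^ k := Nat.one_le_pow _ _ (by omega)
  have h2 : q ^ k * 2 ≤ q ^ (k + 1) := by rw [pow_succ]; exact Nat.mul_le_mul_left _ hq
  omega

/-- the cube against the `p`-part -/
theorem cube_one (hq : 2 ≤ q) {n N k P : ℕ} (h : n = q ^ N * P) (hP : 0 < P) (hk : k * 3 ≤ N) : (q ^ k) ^ 3 ≤ n := by
  rw [← pow_mul, h]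
  exact (Nat.pow_le_pow_right (by omega) hk).trans (Nat.le_mul_of_pos_right _ hP)

theorem cube_gcd (hq : 2 ≤ q) {d n N k P : ℕ} (h : d * n = q ^ N * P) (hd : d ≤ 4) (hP : 0 < P) (hk : k * 3 + 2 ≤ N) :
    (q ^ k) ^ 3 ≤ n := by
  have h1 : 4 * (q ^ k) ^ 3 ≤ q ^ N := by
    refine le_trans ?_ (Nat.pow_le_pow_right (by omega) hk)
    rw [pow_add, pow_mul, mul_comm]
    exact Nat.mul_le_mul_left _ (Nat.pow_le_pow_left hq 2)
  have h2 : q ^ N ≤ 4 * n := (Nat.le_mul_of_pos_right _ hP).trans (h ▸ Nat.mul_le_mul_right _ hd)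
  exact Nat.le_of_mul_le_mul_left (h1.trans h2) (by norm_num)

end num

section tool

variable {G H : Type*} [Group G] [Group H]

theorem sm_of_exact {c : ℕ} (hc : 1 < c) (h : CycExact G c) : Sm G c := by
  obtain ⟨K, -, hK, h⟩ := h
  exact sm_of_iso hc hK h

/-- subgroups meeting an isolated torus -/
theorem sm_of_sub [Finite G] (ι : H →* G) (hι : Function.Injective ι) {c : ℕ} (hc : 1 < c) (h : CycExact G c)
    (hd : c ∣ Nat.card H) : Sm H c := by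
  have : Finite H := Finite.of_injective ι hι
  have hp := Nat.minFac_prime hc.ne'
  exact sm_of_prime rfl Nat.card_pos.ne' hp ((Nat.minFac_dvd c).trans hd) fun x hx =>
    (cent_le_of_inj ι hι x).trans (h.card_centralizer hp (Nat.minFac_dvd c) (by rw [orderOf_injective ι hι, hx])).le

end tool

variable {F : Type} [Field F] [Fintype F] {q m : ℕ}

theorem two_le (hq : Fintype.card F = q) : 2 ≤ q := hq ▸ Fintype.one_lt_card

theorem row_g2 (hq : Fintype.card F = q) (h3 : 3 ≤ q) : CentRow ↥(chevG2.group F) := by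
  have h2 := two_le hq
  refine ((sm_of_cyclic (S2371.result q hq h3)).mono (phi3_le h2)).row ?_
  rw [S1059.result hq]
  have h4 : q ^ 3 ≤ q ^ 6 - 1 := by
    have h5 := succ_le h2 3
    have h6 : q ^ (3 + 1) ≤ q ^ 6 := Nat.pow_le_pow_right (by omega) (by norm_num)
    omega
  calc (q ^ 3) ^ 3 = q ^ 6 * 1 * q ^ 3 := by ring
    _ ≤ _ := Nat.mul_le_mul (Nat.mul_le_mul_left _ (sub_pos h2 1)) h4

theorem row_f4 (hq : Fintype.card F = q) : CentRow ↥(chevF4.group F) := by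
  have h2 := two_le hq
  have p := sub_pos h2
  refine ((sm_of_exact (one_lt_ph h2 (by norm_num)) (exact_F4_12 hq (ph_cast h2 (by norm_num)))).mono
    (ph_le h2 (by norm_num))).row (cube_one h2 (N := 24) (P := (q ^ 2 - 1) * (q ^ 6 - 1) * (q ^ 8 - 1) * (q ^ 12 - 1))
      (by rw [S1062.result hq]; ring) ?_ (by norm_num))
  exact Nat.mul_pos (Nat.mul_pos (Nat.mul_pos (p 1) (p 5)) (p 7)) (p 11)

theorem row_e6 (hq : Fintype.card F = q) : CentRow ↥(chevE6.group F) := by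
  have h2 := two_le hq
  have p := sub_pos h2
  refine ((sm_of_cyclic (S2373.result q hq)).mono (d := q ^ 7) ((Nat.div_le_self _ _).trans ?_)).row
    (cube_gcd h2 (d := Nat.gcd 3 (q - 1)) (N := 36)
      (P := (q ^ 2 - 1) * (q ^ 5 - 1) * (q ^ 6 - 1) * (q ^ 8 - 1) * (q ^ 9 - 1) * (q ^ 12 - 1))
      (by rw [S1063.result hq]; ring) ((Nat.gcd_le_left _ (by norm_num)).trans (by norm_num)) ?_ (by norm_num))
  · exact (Nat.mul_le_mul (ph_le h2 (a := 2) (b := 4) (by norm_num)) (phi3_le h2)).trans (le_of_eq (by ring))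
  · exact Nat.mul_pos (Nat.mul_pos (Nat.mul_pos (Nat.mul_pos (Nat.mul_pos (p 1) (p 4)) (p 5)) (p 7)) (p 8)) (p 11)

theorem row_e7 (hq : Fintype.card F = q) : CentRow ↥(chevE7.group F) := by
  have h2 := two_le hq
  have p := sub_pos h2
  refine ((sm_of_cyclic (S2374.result q hq)).mono (d := q ^ 8) ((Nat.div_le_self _ _).trans ?_)).row
    (cube_gcd h2 (d := Nat.gcd 2 (q - 1)) (N := 63)
      (P := (q ^ 2 - 1) * (q ^ 6 - 1) * (q ^ 8 - 1) * (q ^ 10 - 1) * (q ^ 12 - 1) * (q ^ 14 - 1) * (q ^ 18 - 1))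
      (by rw [S1064.result hq]; ring) ((Nat.gcd_le_left _ (by norm_num)).trans (by norm_num)) ?_ (by norm_num))
  · exact (Nat.mul_le_mul (ph_le h2 (a := 2) (b := 4) (by norm_num)) (succ_le h2 3)).trans (le_of_eq (by ring))
  · exact Nat.mul_pos (Nat.mul_pos (Nat.mul_pos (Nat.mul_pos (Nat.mul_pos (Nat.mul_pos (p 1) (p 5)) (p 7)) (p 9))
      (p 11)) (p 13)) (p 17)

theorem row_e8 (hq : Fintype.card F = q) : CentRow ↥(chevE8.group F) := by
  have h2 := two_le hq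
  have p := sub_pos h2
  refine ((sm_of_exact (one_lt_ph h2 (by norm_num)) (exact_E8_24 hq (ph_cast h2 (by norm_num)))).mono
    (ph_le h2 (by norm_num))).row (cube_one h2 (N := 120) (P := (q ^ 2 - 1) * (q ^ 8 - 1) * (q ^ 12 - 1) * (q ^ 14 - 1) *
      (q ^ 18 - 1) * (q ^ 20 - 1) * (q ^ 24 - 1) * (q ^ 30 - 1)) (by rw [S1065.result hq]; ring) ?_ (by norm_num))
  exact Nat.mul_pos (Nat.mul_pos (Nat.mul_pos (Nat.mul_pos (Nat.mul_pos (Nat.mul_pos (Nat.mul_pos (p 1) (p 7)) (p 11))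
    (p 13)) (p 17)) (p 19)) (p 23)) (p 29)

theorem row_te6 (hq : IsPrimePow q) (hK : Fintype.card F = q ^ 2) : CentRow ↥(twistedE6 F q) := by
  have h2 := hq.two_le
  have p := sub_pos h2
  have h3 : Nat.gcd 3 (q + 1) ≤ 3 := Nat.gcd_le_left _ (by norm_num)
  refine ((sm_of_exact ?_ (exact_tE6_18 hq hK (ph_cast h2 (by norm_num)))).mono
    ((Nat.div_le_self _ _).trans (ph_le h2 (by norm_num)))).row (cube_gcd h2 (d := Nat.gcd 3 (q + 1)) (N := 36)
      (P := (q ^ 2 - 1) * (q ^ 5 + 1) * (q ^ 6 - 1) * (q ^ 8 - 1) * (q ^ 9 + 1) * (q ^ 12 - 1))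
      (by rw [S1066.result hq hK]; ring) (h3.trans (by norm_num)) ?_ (by norm_num))
  · have h4 := lt_ph h2 (a := 3) (b := 6) (by norm_num)
    have h5 : 2 ^ 3 ≤ q ^ 3 := Nat.pow_le_pow_left h2 3
    exact (Nat.le_div_iff_mul_le (Nat.gcd_pos_of_pos_left _ (by norm_num))).2 (by omega)
  · exact Nat.mul_pos (Nat.mul_pos (Nat.mul_pos (Nat.mul_pos (Nat.mul_pos (p 1) (Nat.succ_pos _)) (p 5)) (p 7))
      (Nat.succ_pos _)) (p 11)

theorem row_td4 (hq : IsPrimePow q) (hK : Fintype.card F = q ^ 3) : CentRow ↥(twistedD4 F q) := by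
  have h2 := hq.two_le
  have p := sub_pos h2
  refine ((sm_of_exact (one_lt_ph h2 (by norm_num)) (exact_tD4_12 hq hK (ph_cast h2 (by norm_num)))).mono
    (ph_le h2 (by norm_num))).row (cube_one h2 (N := 12) (P := (q ^ 2 - 1) * (q ^ 6 - 1) * (q ^ 8 + q ^ 4 + 1))
      (by rw [S1067.result hq hK]; ring) ?_ (by norm_num))
  exact Nat.mul_pos (Nat.mul_pos (p 1) (p 5)) (Nat.succ_pos _)

theorem ph_dvd (hq : 2 ≤ q) (a : ℕ) : ph q a (2 * a) ∣ q ^ (3 * a) + 1 := by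
  refine Int.natCast_dvd_natCast.1 ⟨(q : ℤ) ^ a + 1, ?_⟩
  rw [ph_cast hq (by omega)]
  push_cast
  ring

theorem row_tf4 (hK : Fintype.card F = 2 ^ (2 * m + 1)) : CentRow ↥(twistedF4 F (2 ^ m)) := by
  have hn := S1068.result hK
  have hle := H129.SuzT.twisted_le F m
  generalize 2 ^ (2 * m + 1) = q at hK hn
  have h2 := two_le hK
  have p := sub_pos h2
  refine ((sm_of_sub (inclusion hle) (inclusion_injective hle) (one_lt_ph h2 (by norm_num))
    (exact_F4_12 hK (ph_cast h2 (by norm_num))) ?_).mono (ph_le h2 (by norm_num))).row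
    (cube_one h2 (N := 12) (P := (q - 1) * (q ^ 3 + 1) * (q ^ 4 - 1) * (q ^ 6 + 1)) (by rw [hn]; ring) ?_ (by norm_num))
  · rw [hn]
    exact (ph_dvd h2 2).mul_left _
  · exact Nat.mul_pos (Nat.mul_pos (Nat.mul_pos (by omega) (Nat.succ_pos _)) (p 3)) (Nat.succ_pos _)

theorem row_ree (hK : Fintype.card F = 3 ^ (2 * m + 1)) : CentRow ↥(twistedG2 F (3 ^ m)) := by
  have hn := S1069.result hK
  have hle : twistedG2 F (3 ^ m) ≤ chevG2.group F := H129.SuzT.genSubgroup_le_group (by simp) _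
  have h3 : 3 ∣ 3 ^ (2 * m + 1) := dvd_pow_self 3 (by omega)
  generalize 3 ^ (2 * m + 1) = q at hK hn h3
  have h2 := two_le hK
  have h4 : ¬ 3 ∣ ph q 1 2 := by
    have h5 : 3 ∣ q ^ 2 - q ^ 1 := Nat.dvd_sub (h3.pow (by norm_num)) (h3.pow (by norm_num))
    unfold ph
    omega
  refine ((sm_of_sub (inclusion hle) (inclusion_injective hle) (one_lt_ph h2 (by norm_num))
    (exact_G2_6 hK (by rw [ph_cast h2 (a := 1) (b := 2) (by norm_num), pow_one]) h4) ?_).mono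
    (ph_le h2 (by norm_num))).row ?_
  · rw [hn]
    exact (ph_dvd h2 1).mul_left _
  · rw [hn]
    calc (q ^ 2) ^ 3 = q ^ 3 * 1 * q ^ 3 := by ring
      _ ≤ _ := Nat.mul_le_mul (Nat.mul_le_mul_left _ (by omega)) (Nat.le_succ _)

theorem row_sz (hm : 1 ≤ m) (hF : Fintype.card F = 2 ^ (2 * m + 1)) : CentRow ↥(Lie.Sz F (2 ^ (m + 1))) := by
  have hn := (S1163.result hm hF).1
  obtain ⟨U, -, hU, hc, -⟩ := S0333.result hm hF (ph 2 (m + 1) (2 * m + 1)) (Or.inr rfl)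
  obtain ⟨e⟩ := OddCyclic.ClaimC.SzIso.iso (F := F) hm hF
  have h1 := (sm_of_iso (one_lt_ph le_rfl (by omega)) hU hc).mono (ph_le le_rfl (by omega))
  generalize 2 ^ (2 * m + 1) = q at hF hn h1
  have h2 := two_le hF
  refine h1.row' e.symm hn ?_
  calc q ^ 3 = q ^ 2 * 1 * q := by ring
    _ ≤ _ := Nat.mul_le_mul (Nat.mul_le_mul_left _ (by omega)) (by nlinarith)

variable {T : Type*} [Group T]

theorem cent_g2 (h : IsoChevG2 T) : CentRow T := by
  obtain ⟨F, _, _, h3, ⟨e⟩⟩ := h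
  exact centRow_congr e.symm (row_g2 rfl h3)

theorem cent_f4 (h : IsoF4 T) : CentRow T := by
  obtain ⟨F, _, _, ⟨e⟩⟩ := h
  exact centRow_congr e.symm (row_f4 rfl)

theorem cent_e6 (h : IsoChevE6 T) : CentRow T := by
  obtain ⟨F, _, _, ⟨e⟩⟩ := h
  exact centRow_congr e.symm (row_e6 rfl)

theorem cent_e7 (h : IsoE7 T) : CentRow T := by
  obtain ⟨F, _, _, ⟨e⟩⟩ := h
  exact centRow_congr e.symm (row_e7 rfl)

theorem cent_e8 (h : IsoE8 T) : CentRow T := by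
  obtain ⟨F, _, _, ⟨e⟩⟩ := h
  exact centRow_congr e.symm (row_e8 rfl)

theorem cent_te6 (h : Iso2E6 T) : CentRow T := by
  obtain ⟨F, _, _, q, hq, hK, ⟨e⟩⟩ := h
  exact centRow_congr e.symm (row_te6 hq hK)

theorem cent_td4 (h : Iso3D4 T) : CentRow T := by
  obtain ⟨F, _, _, q, hq, hK, ⟨e⟩⟩ := h
  exact centRow_congr e.symm (row_td4 hq hK)

theorem cent_sz (h : IsoSuzuki T) : CentRow T := by
  obtain ⟨F, _, _, m, hm, hK, ⟨e⟩⟩ := h
  exact centRow_congr e.symm (row_sz hm hK)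

theorem cent_ree (h : IsoRee T) : CentRow T := by
  obtain ⟨F, _, _, m, -, hK, ⟨e⟩⟩ := h
  exact centRow_congr e.symm (row_ree hK)

theorem cent_tf4 (h : Iso2F4 T) : CentRow T := by
  obtain ⟨F, _, _, m, -, hK, ⟨e⟩⟩ := h
  exact centRow_congr e.symm (row_tf4 hK)

end Cfsg.Agent.N2.CentX
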