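import Cfsg.Agent.N2.Cent.X.Exc
import Cfsg.Agent.NotCT.Orders
import Cfsg.Agent.H253.TwoComm.SporTool
import Cfsg.Agent.H253.TwoComm.Cent
import Cfsg.Agent.H253.TwoComm.RowCo23
import Cfsg.Agent.H253.TwoComm.RowMT
import Cfsg.Agent.H859.M24Eleven
import Cfsg.Agent.S0364
import Cfsg.Agent.H1.J1Real
import Cfsg.Agent.OddHalf.Table.OutJ2
import Cfsg.Agent.J2.HundredGens
import Cfsg.Agent.H898.J3Cent
import Cfsg.Agent.H723.Spor.JFour
import Cfsg.Agent.H604.Cop.Conway
import Cfsg.Agent.H904.HSIso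
import Cfsg.Agent.TypeM.FactsLy
import Cfsg.Agent.TypeM.FactsMcL
import Cfsg.Agent.OddHalf.Table.OutSuz
import Cfsg.Agent.OddHalf.Table.OutRu
import Cfsg.Agent.RuLat.Main
import Cfsg.Agent.CpAutHe.Bound
import Cfsg.Agent.H474.ONC.End

/-!
# N2 (S3519), box `Cent`: the Tits group and nineteen sporadic groups (helper76)
-/

set_option autoImplicit false

namespace Cfsg.Agent.N2.CentX

open Cfsg Cfsg.Lie Cfsg.Agent.FP3 Subgroup Cfsg.Agent.H253.TC

variable {T : Type} [Group T]

theorem card_of {G : Type*} [Group G] (e : T ≃* G) {n : ℕ} (hn : Nat.card T = n) : Nat.card G = n := by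
  rw [← hn, Nat.card_congr e.toEquiv]

theorem cent_tits (h : IsoTits T) : CentRow T := by
  have hn := NotCT.Orders.tits h
  obtain ⟨e⟩ := h
  have hle : twistedF4 (ZMod 2) 1 ≤ chevF4.group (ZMod 2) := H129.SuzT.genSubgroup_le_group (by simp) _
  have h1 := sm_of_sub ((inclusion hle).comp ((commutator _).subtype.comp e.toMonoidHom))
    ((inclusion_injective hle).comp ((subtype_injective _).comp e.injective)) (c := 13) (by norm_num)
    (H129.CycT.exact_F4_12 (ZMod.card 2) (by norm_num)) (by rw [hn]; norm_num)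
  exact h1.row (by rw [hn]; norm_num)

theorem sm_m24 {H : Subgroup (Equiv.Perm GolayPt)} (hH : H ≤ M24) (h : 11 ∣ Nat.card H) : Sm H 11 := by
  have : Finite M24 := Nat.finite_of_card_ne_zero (by rw [S0364.result]; norm_num)
  have hi := inclusion_injective hH
  refine sm_of_prime rfl Nat.card_pos.ne' (by norm_num) h fun x hx => (cent_le_of_inj (inclusion hH) hi x).trans ?_
  rw [card_cent_of_once (p := 11) (by norm_num) (by rw [S0364.result]; norm_num) (y := H859.M24Eleven.f)
    (by rw [orderOf_injective _ hi, hx]) H859.M24Eleven.orderOf_f, H859.M24Eleven.card_centralizer_f]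

theorem cent_m11 (h : Spor.IsoM11 T) : CentRow T := by
  have hn := NotCT.Orders.m11 h
  obtain ⟨e⟩ := h
  exact (sm_m24 (H := Spor.M11) (inf_le_left.trans inf_le_left) (by rw [card_of e hn]; norm_num)).row' e hn (by norm_num)

theorem cent_m12 (h : Spor.IsoM12 T) : CentRow T := by
  have hn := NotCT.Orders.m12 h
  obtain ⟨e⟩ := h
  exact (sm_m24 (H := Spor.M12) inf_le_left (by rw [card_of e hn]; norm_num)).row' e hn (by norm_num)

theorem cent_m22 (h : Spor.IsoM22 T) : CentRow T := by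
  have hn := NotCT.Orders.m22 h
  obtain ⟨e⟩ := h
  exact (sm_m24 (H := Spor.M22) (inf_le_left.trans inf_le_left) (by rw [card_of e hn]; norm_num)).row' e hn (by norm_num)

theorem cent_m23 (h : Spor.IsoM23 T) : CentRow T := by
  have hn := NotCT.Orders.m23 h
  obtain ⟨e⟩ := h
  exact (sm_m24 (H := Spor.M23) inf_le_left (by rw [card_of e hn]; norm_num)).row' e hn (by norm_num)

theorem cent_m24 (h : Spor.IsoM24 T) : CentRow T := by
  have hn := NotCT.Orders.m24 h
  obtain ⟨e⟩ := h
  exact (sm_m24 le_rfl (by rw [card_of e hn]; norm_num)).row' e hn (by norm_num)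

theorem cent_j1 (h : Spor.IsoJ1 T) : CentRow T := by
  have hn := NotCT.Orders.j1 h
  obtain ⟨e⟩ := h
  exact (sm_of_prime (card_of e hn) (by norm_num) (p := 5) (by norm_num) (by norm_num) fun x hx =>
    (H1.J1Real.card_cent_five hx).le).row' e hn (by norm_num)

theorem cent_j2 (h : Spor.IsoJ2 T) : CentRow T := by
  have hn := NotCT.Orders.j2 h
  obtain ⟨e⟩ := h
  obtain ⟨f⟩ := J2.HundredGens.J2_iso (card_of e hn)
  refine Sm.row' (c := 7) ⟨⟨_, OddHalf.Table.OutJ2.x_mem⟩, card_le_of_pow ?_ (by norm_num) fun c hc => ?_⟩ (e.trans f) hn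
    (by norm_num)
  · rw [Subgroup.orderOf_mk]
    exact OddHalf.Table.OutJ2.order_x
  · obtain ⟨i, hi⟩ := OddHalf.Table.OutJ2.cent_x c.2 (congrArg Subtype.val hc)
    exact ⟨i, Subtype.ext hi⟩

theorem cent_j3 (h : Spor.IsoJ3 T) : CentRow T := by
  have hn := NotCT.Orders.j3 h
  exact (sm_of_prime hn (by norm_num) (p := 19) (by norm_num) (by norm_num) fun x hx =>
    (H898.J3Cent.card_nineteen h hx).le).row (by rw [hn]; norm_num)

theorem cent_j4 (h : Spor.IsoJ4 T) : CentRow T := by
  have hn := NotCT.Orders.j4 h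
  obtain ⟨e⟩ := h
  exact (sm_of_prime (card_of e hn) (by norm_num) (p := 43) (by norm_num) (by norm_num) fun x hx =>
    (H723.Spor.JFour.cent_big (by norm_num) hx).le).row' e hn (by norm_num)

theorem cent_co1 (h : Spor.IsoCo1 T) : CentRow T := by
  have hn := NotCT.Orders.co1 h
  obtain ⟨e⟩ := h
  exact Sm.row' ⟨_, H604.Cop.Conway.card_cent_s23⟩ e hn (by norm_num)

theorem cent_co2 (h : Spor.IsoCo2 T) : CentRow T := by
  have hn := NotCT.Orders.co2 h
  obtain ⟨e⟩ := h
  exact Sm.row' (exists_cent_co0 (H := Spor.Co2) inf_le_left (by rw [card_of e hn]; norm_num)) e hn (by norm_num)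

theorem cent_co3 (h : Spor.IsoCo3 T) : CentRow T := by
  have hn := NotCT.Orders.co3 h
  obtain ⟨e⟩ := h
  exact Sm.row' (exists_cent_co0 (H := Spor.Co3) inf_le_left (by rw [card_of e hn]; norm_num)) e hn (by norm_num)

theorem cent_mcl (h : Spor.IsoMcL T) : CentRow T := by
  obtain ⟨_, -, hn, ⟨L⟩⟩ := TypeM.FactsMcL.facts h
  exact Sm.row (exists_cent_mt L (p := 7) (by norm_num) (by norm_num) (by norm_num) (by norm_num))
    (by rw [hn]; norm_num [Nat.factorial])

theorem cent_hs (h : Spor.IsoHS T) : CentRow T := by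
  have hn := NotCT.Orders.hs h
  exact (sm_of_prime hn (by norm_num) (p := 11) (by norm_num) (by norm_num) fun x hx =>
    (H904.HSIso.card_eleven h hx).le).row (by rw [hn]; norm_num)

theorem cent_suz (h : Spor.IsoSuz T) : CentRow T := by
  have hn := NotCT.Orders.suz h
  obtain ⟨e⟩ := h
  exact Sm.row' ⟨_, card_le_of_pow OddHalf.Table.OutSuz.order_x (by norm_num) OddHalf.Table.OutSuz.cent_x⟩ e hn
    (by norm_num)

theorem cent_he (h : Spor.IsoHe T) : CentRow T := by
  have hn := NotCT.Orders.he h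
  obtain ⟨e⟩ := h
  exact Sm.row' ⟨_, CpAutHe.Bound.card1⟩ e hn (by norm_num)

theorem cent_ru (h : Spor.IsoRu T) : CentRow T := by
  have hn := NotCT.Orders.ru h
  obtain ⟨e⟩ := h
  exact Sm.row' ⟨_, card_le_of_pow OddHalf.Table.OutRu.orderOf_x (by norm_num) OddHalf.Table.OutRu.cent_x'⟩
    (e.trans RuLat.Main.equiv) hn (by norm_num)

theorem cent_on (h : Spor.IsoON T) : CentRow T := by
  have hn := NotCT.Orders.on h
  obtain ⟨e⟩ := h
  exact (sm_of_prime (card_of e hn) (by norm_num) (p := 5) (by norm_num) (by norm_num) fun x hx =>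
    (H474.ONC.card_cent_five hx).le).row' e hn (by norm_num)

theorem cent_ly (h : Spor.IsoLy T) : CentRow T := by
  obtain ⟨_, -, hn, ⟨L⟩⟩ := TypeM.FactsLy.facts h
  exact Sm.row (exists_cent_mt L (p := 11) (by norm_num) (by norm_num) (by norm_num) (by norm_num))
    (by rw [hn]; norm_num [Nat.factorial])

end Cfsg.Agent.N2.CentX
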