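import Cfsg.Agent.N2.Cent.X.SporA
import Cfsg.Agent.NotCT.Orders
import Cfsg.Agent.H713.Spor.Fi22
import Cfsg.Agent.H839.SeventeenMain
import Cfsg.Agent.H187.FiOdd.Cent
import Cfsg.Agent.R08.FiTwentyFour
import Cfsg.Agent.H845.HNNineteen
import Cfsg.Agent.H951.TCRowTh
import Cfsg.Agent.H723.Spor.Th
import Cfsg.Agent.KFacts.Th.Main
import Cfsg.Agent.H253.TwoComm.RowBM
import Cfsg.Agent.H973.BabyCov
import Cfsg.Agent.H848.MonsterSetup

/-!
# N2 (S3519), box `Cent`: the sporadic groups; the rows of task N2-Cent-X (helper76)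
-/

set_option autoImplicit false

namespace Cfsg.Agent.N2.CentX

open Cfsg Cfsg.Lie Cfsg.Agent.FP3 Subgroup Cfsg.Agent.H253.TC

variable {T : Type} [Group T]

theorem cent_fi22 (h : Spor.IsoFi22 T) : CentRow T := by
  have hn := NotCT.Orders.fi22 h
  obtain ⟨e⟩ := h
  exact (sm_of_prime hn (by norm_num) (p := 13) (by norm_num) (by norm_num) fun x hx =>
    (H713.Spor.Fi22.cent_13 e hx).le).row (by rw [hn]; norm_num)

theorem cent_fi23 (h : Spor.IsoFi23 T) : CentRow T := by
  have hn := NotCT.Orders.fi23 h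
  obtain ⟨e⟩ := h
  refine (sm_of_prime (card_of e hn) (by norm_num) (p := 23) (c := 23) (by norm_num) (by norm_num) fun x hx => ?_).row' e hn
    (by norm_num)
  have h1 : Nat.card (zpowers x) = 23 := by rw [Nat.card_zpowers, hx]
  rw [← cent_zpowers, (H839.Fi23.twentythree_main (zpowers x) h1).2, h1]

theorem cent_fi24 (h : Spor.IsoFi24' T) : CentRow T := by
  have hn := NotCT.Orders.fi24 h
  obtain ⟨e⟩ := h
  have := R08.FiTwentyFour.finite_Fi24
  have hi := subtype_injective (commutator Spor.Fi24)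
  exact (sm_of_prime (card_of e hn) (by norm_num) (p := 5) (by norm_num) (by norm_num) fun x hx =>
    (cent_le_of_inj _ hi x).trans (H187.FiOdd.card_cent_five (by rw [orderOf_injective _ hi, hx]))).row' e hn (by norm_num)

theorem cent_hn (h : Spor.IsoHN T) : CentRow T := by
  have hn := NotCT.Orders.hn h
  obtain ⟨e⟩ := h
  obtain ⟨x, -, hx⟩ := H845.HNNineteen.hn_nineteen
  exact Sm.row' ⟨x, hx.le⟩ e hn (by norm_num)

theorem cent_th (h : Spor.IsoTh T) : CentRow T := by
  have hn := NotCT.Orders.th h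
  obtain ⟨e⟩ := h
  have : Finite Spor.Th := Nat.finite_of_card_ne_zero (by rw [card_of e hn]; norm_num)
  exact Sm.row' ⟨_, H951.TCRowTh.card_le (H723.Spor.Th.setup KFacts.Th.Main.ctx H723.Spor.Th.hone)⟩ e hn (by norm_num)

theorem cent_b (h : Spor.IsoB T) : CentRow T := by
  have hn := NotCT.Orders.b h
  obtain ⟨e⟩ := h
  have := H848.MonsterSetup.finite
  obtain ⟨Q, z, eta, pi, x, t, hch, hx, htQ, ht, hxt⟩ := exists_bm
  obtain ⟨-, -, ⟨f⟩, -⟩ := H973.BabyCov.cover_of_type_two hch htQ ht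
  let φ : centralizer ({t} : Set Spor.Monster) →* Spor.BabyMonster := f.toMonoidHom.comp (QuotientGroup.mk' (center _))
  have hk : φ.ker ≤ center _ := fun g hg => by
    have h1 : f (QuotientGroup.mk' _ g) = 1 := hg
    rwa [map_eq_one_iff f f.injective, ← MonoidHom.mem_ker, QuotientGroup.ker_mk'] at h1
  let y : centralizer ({t} : Set Spor.Monster) := ⟨x, mem_centralizer_singleton_iff.2 hxt⟩
  exact Sm.row' ⟨φ y, ((card_cent_le_of_central φ (f.surjective.comp (QuotientGroup.mk'_surjective _)) hk y).trans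
    (cent_le_of_inj (centralizer ({t} : Set Spor.Monster)).subtype (subtype_injective _) y)).trans hx⟩ e hn (by norm_num)

theorem cent_m (h : Spor.IsoM T) : CentRow T := by
  have hn := NotCT.Orders.m h
  obtain ⟨e⟩ := h
  obtain ⟨Q, z, eta, pi, x, t, -, hx, -⟩ := exists_bm
  exact Sm.row' ⟨x, hx⟩ e hn (by norm_num)

/-- **the sporadic groups** -/
theorem cent_spor (h : IsSporadicGroup T) : CentRow T := by
  rcases h with h | h | h | h | h | h | h | h | h | h | h | h | h | h | h | h | h | h | h | h | h | h | h | h | h | h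
  exacts [cent_m11 h, cent_m12 h, cent_m22 h, cent_m23 h, cent_m24 h, cent_j1 h, cent_j2 h, cent_j3 h, cent_j4 h,
    cent_co1 h, cent_co2 h, cent_co3 h, cent_mcl h, cent_hs h, cent_suz h, cent_he h, cent_ru h, cent_on h, cent_ly h,
    cent_fi22 h, cent_fi23 h, cent_fi24 h, cent_hn h, cent_th h, cent_b h, cent_m h]

/-- **the exceptional groups of Lie type** -/
theorem cent_exc (h : IsExceptionalLieType T) : CentRow T := by
  rcases h with h | h | h | h | h | h | h | h | h | h | h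
  exacts [cent_g2 h, cent_f4 h, cent_e6 h, cent_e7 h, cent_e8 h, cent_te6 h, cent_td4 h, cent_sz h, cent_ree h,
    cent_tf4 h, cent_tits h]

/-- **all rows of `Cent`** from the six classical rows -/
theorem all_of_cl (l : CRow fL) (s : CRow fS) (u : CRow fU) (o : CRow fO) (p : CRow fP) (m : CRow fM) : All CRow where
  a _ _ _ _ _ h := cent_alt h
  l := l
  s := s
  u := u
  o := o
  p := p
  m := m
  g2 _ _ _ _ _ h := cent_g2 h
  f4 _ _ _ _ _ h := cent_f4 h
  e6 _ _ _ _ _ h := cent_e6 h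
  e7 _ _ _ _ _ h := cent_e7 h
  e8 _ _ _ _ _ h := cent_e8 h
  te6 _ _ _ _ _ h := cent_te6 h
  td4 _ _ _ _ _ h := cent_td4 h
  sz _ _ _ _ _ h := cent_sz h
  ree _ _ _ _ _ h := cent_ree h
  tf4 _ _ _ _ _ h := cent_tf4 h
  tits _ _ _ _ _ h := cent_tits h
  spor _ _ _ _ _ h := cent_spor h

end Cfsg.Agent.N2.CentX
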